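import Cfsg.Agent.Lib.Helper95.Tits.Defs
import Cfsg.Agent.Lib.Helper95.Tits.Data
import Cfsg.Agent.Lib.Helper95.Tits.XColsData
import Cfsg.Agent.Lib.Helper95.Ru.DataH

set_option autoImplicit false

namespace Cfsg.Agent.Lib.Helper95.Tits

open Cfsg.Agent.Lib.Helper95.Ru

set_option maxRecDepth 1000000 in
theorem act_pm0 : allBelow (fun x => !(inOrb hW2 x) || Nat.beq (applyCols [xc_14_0, xc_23_0] (vt VT x)) (vt VT (tb tId x))) 4060 = true := by decide +kernel
set_option maxRecDepth 1000000 in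
theorem act_cp00 : allBelow (fun x => !(inOrb hW2 x) || Nat.beq (applyCols [xc_27_0, xc_25_0, xc_28_0, xc_30_0] (vt VT x)) (vt VT (tb tId x))) 4060 = true := by decide +kernel
set_option maxRecDepth 1000000 in
theorem act_cm01 : allBelow (fun x => !(inOrb hW2 x) || Nat.beq (applyCols [xc_20_0, xc_22_0, xc_19_1, xc_17_1] (vt VT x)) (vt VT (tb bT_cm01 x))) 4060 = true := by decide +kernel
set_option maxRecDepth 1000000 in
theorem act_cp11 : allBelow (fun x => !(inOrb hW2 x) || Nat.beq (applyCols [xc_27_1, xc_25_1, xc_28_0, xc_30_1] (vt VT x)) (vt VT (tb bT_cp11 x))) 4060 = true := by decide +kernel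

end Cfsg.Agent.Lib.Helper95.Tits
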