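import Cfsg.Agent.Lib.Helper95.Tits.Defs
import Cfsg.Agent.Lib.Helper95.Tits.Data
import Cfsg.Agent.Lib.Helper95.Tits.XColsData
import Cfsg.Agent.Lib.Helper95.Ru.DataH

set_option autoImplicit false

namespace Cfsg.Agent.Lib.Helper95.Tits

open Cfsg.Agent.Lib.Helper95.Ru

set_option maxRecDepth 1000000 in
theorem rev_1 : wordCheck hT2_1 (wT bLT [0, 9, 0, 9, 0, 9, 0, 2, 10, 8, 1, 9, 10, 1, 9, 1, 9, 1, 0, 9, 0, 9, 0, 9, 0, 2, 10, 8, 1, 9, 10, 1, 9, 1, 9, 1, 0, 2, 8, 0, 9, 0, 8, 11, 4, 11, 5, 1, 9, 1, 8, 3, 1, 0, 8, 0, 8, 0, 11, 8, 0, 9, 11, 3, 1, 8, 1, 8, 1, 8, 1, 0, 8, 0, 8, 0, 11, 8, 0, 9, 11, 3, 1, 8, 1, 8, 1, 8, 1, 0, 2, 9, 0, 8, 0, 2, 4, 0, 5, 10, 3, 1, 5, 1,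 9, 1, 9, 1, 0, 8, 0, 8, 0, 11, 8, 0, 9, 11, 3, 1, 8, 1, 8, 1, 8, 1, 0, 2, 9, 0, 8, 0, 4, 10, 5, 10, 9, 1, 8, 1, 9, 3, 1, 0, 2, 9, 0, 8, 0, 4, 10, 5, 10, 9, 1, 8, 1, 9, 3, 1, 0, 8, 0, 8, 0, 4, 0, 2, 11, 4, 1, 5, 3, 1, 9, 1, 8, 3, 1, 0, 2, 8, 0, 9, 0, 8, 11, 4, 11, 5, 1, 9, 1, 8, 3, 1, 0, 9, 0, 9, 0, 9, 0, 2, 10, 8, 1, 9, 10, 1, 9, 1, 9, 1, 0, 9, 0, 9, 0, 9, 0, 2, 10, 8, 1, 9, 10, 1, 9, 1, 9, 1, 0, 9, 0, 9, 0, 9, 0, 2, 10, 8, 1, 9, 10, 1, 9, 1, 9, 1, 0, 2, 8, 0, 9, 0, 8, 11, 4, 11, 5, 1, 9, 1, 8, 3, 1, 0, 8, 0, 8, 0, 11, 8, 0, 9, 11, 3, 1, 8, 1, 8, 1, 8, 1, 0, 8, 0, 8, 0, 11, 8, 0, 9, 11, 3, 1, 8, 1, 8, 1, 8, 1, 0, 2, 9, 0, 8, 0, 2, 4, 0, 5, 10, 3, 1, 5, 1, 9, 1,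 9, 1, 0, 8, 0, 8, 0, 11, 8, 0, 9, 11, 3, 1, 8, 1, 8, 1, 8, 1, 0, 2, 9, 0, 8, 0, 4, 10, 5, 10, 9, 1, 8, 1, 9, 3, 1, 0, 2, 9, 0, 8, 0, 4, 10, 5, 10, 9, 1, 8, 1, 9, 3, 1, 0, 8, 0, 8, 0, 4, 0, 2, 11, 4, 1, 5, 3, 1, 9, 1, 8, 3, 1, 0, 2, 8, 0, 9, 0, 8, 11, 4, 11, 5, 1, 9, 1, 8, 3, 1, 0, 9, 0, 9, 0, 9, 0, 2, 10, 8, 1, 9, 10, 1, 9, 1, 9, 1, 0, 8, 0, 8, 0, 4, 0, 2, 11, 4, 1, 5, 3, 1, 9, 1, 8, 3, 1, 0, 2, 9, 0, 8, 0, 4, 10, 5, 10, 9, 1, 8, 1, 9, 3, 1, 0, 8, 0, 8, 0, 4, 0, 2, 11, 4, 1, 5, 3, 1, 9, 1, 8, 3, 1, 0, 2, 9, 0, 8, 0, 4, 10, 5, 10, 9, 1, 8, 1, 9, 3, 1, 0, 8, 0, 8, 0, 4, 0, 2, 11, 4, 1, 5, 3, 1, 9, 1, 8, 3, 1, 0, 2, 8, 0, 11, 8, 0, 8, 0, 2]) = true := by decide +kernel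

end Cfsg.Agent.Lib.Helper95.Tits
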