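import Cfsg.Agent.Lib.Helper95.Tits.Defs
import Cfsg.Agent.Lib.Helper95.Tits.Data
import Cfsg.Agent.Lib.Helper95.Tits.XColsData
import Cfsg.Agent.Lib.Helper95.Ru.DataH

set_option autoImplicit false

namespace Cfsg.Agent.Lib.Helper95.Tits

open Cfsg.Agent.Lib.Helper95.Ru

set_option maxRecDepth 1000000 in
theorem span52 : allBelow (fun j => Nat.beq (mulM (B52.map (vt VT)) (vt INVT j)) (Nat.shiftLeft 1 j)) 52 = true := by decide +kernel
set_option maxRecDepth 1000000 in
theorem b52_inR : B52.all (fun b => Nat.blt b 4060 && inOrb hW2 b) = true := by decide +kernel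
set_option maxRecDepth 1000000 in
theorem inj_sorted : allBelow (fun k => Nat.blt (vt VT (tb SLT k)) (vt VT (tb SLT (k + 1)))) 1754 = true := by decide +kernel
set_option maxRecDepth 1000000 in
theorem inj_pos : allBelow (fun x => !(inOrb hW2 x) || (Nat.blt (tb POST x) 1755 && Nat.beq (tb SLT (tb POST x)) x)) 4060 = true := by decide +kernel
set_option maxRecDepth 1000000 in
theorem vt_lt : allBelow (fun x => Nat.blt (vt VT x) 4503599627370496) 4060 = true := by decide +kernel
theorem inR3 : inOrb hW2 3 = true := by decide +kernel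
theorem inR5 : inOrb hW2 5 = true := by decide +kernel

end Cfsg.Agent.Lib.Helper95.Tits
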