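import Cfsg.Agent.Lib.Helper95.Tits.ChkV
import Cfsg.Agent.Lib.Helper95.Tits.ChkA1
import Cfsg.Agent.Lib.Helper95.Tits.ChkA2
import Cfsg.Agent.Lib.Helper95.Tits.ChkA3
import Cfsg.Agent.Lib.Helper95.Tits.ChkR0
import Cfsg.Agent.Lib.Helper95.Tits.ChkR1
import Cfsg.Agent.Lib.Helper95.Tits.ChkS
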