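import Cfsg.Agent.Lib.Helper95.Tits.Defs
import Cfsg.Agent.Lib.Helper95.Tits.XColsData

set_option autoImplicit false

namespace Cfsg.Agent.Lib.Helper95.Tits

open Cfsg.Agent.Lib.Helper95.Ru

theorem sq_14_0 : allBelow (fun c => Nat.beq (mulM xc_14_0 (mulM xc_14_0 (Nat.shiftLeft 1 c))) (Nat.shiftLeft 1 c)) 52 = true := by decide +kernel
theorem sq_14_1 : allBelow (fun c => Nat.beq (mulM xc_14_1 (mulM xc_14_1 (Nat.shiftLeft 1 c))) (Nat.shiftLeft 1 c)) 52 = true := by decide +kernel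
theorem sq_17_0 : allBelow (fun c => Nat.beq (mulM xc_17_0 (mulM xc_17_0 (Nat.shiftLeft 1 c))) (Nat.shiftLeft 1 c)) 52 = true := by decide +kernel
theorem sq_17_1 : allBelow (fun c => Nat.beq (mulM xc_17_1 (mulM xc_17_1 (Nat.shiftLeft 1 c))) (Nat.shiftLeft 1 c)) 52 = true := by decide +kernel
theorem sq_19_0 : allBelow (fun c => Nat.beq (mulM xc_19_0 (mulM xc_19_0 (Nat.shiftLeft 1 c))) (Nat.shiftLeft 1 c)) 52 = true := by decide +kernel
theorem sq_19_1 : allBelow (fun c => Nat.beq (mulM xc_19_1 (mulM xc_19_1 (Nat.shiftLeft 1 c))) (Nat.shiftLeft 1 c)) 52 = true := by decide +kernel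
theorem sq_20_0 : allBelow (fun c => Nat.beq (mulM xc_20_0 (mulM xc_20_0 (Nat.shiftLeft 1 c))) (Nat.shiftLeft 1 c)) 52 = true := by decide +kernel
theorem sq_20_1 : allBelow (fun c => Nat.beq (mulM xc_20_1 (mulM xc_20_1 (Nat.shiftLeft 1 c))) (Nat.shiftLeft 1 c)) 52 = true := by decide +kernel
theorem sq_22_0 : allBelow (fun c => Nat.beq (mulM xc_22_0 (mulM xc_22_0 (Nat.shiftLeft 1 c))) (Nat.shiftLeft 1 c)) 52 = true := by decide +kernel
theorem sq_22_1 : allBelow (fun c => Nat.beq (mulM xc_22_1 (mulM xc_22_1 (Nat.shiftLeft 1 c))) (Nat.shiftLeft 1 c)) 52 = true := by decide +kernel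
theorem sq_23_0 : allBelow (fun c => Nat.beq (mulM xc_23_0 (mulM xc_23_0 (Nat.shiftLeft 1 c))) (Nat.shiftLeft 1 c)) 52 = true := by decide +kernel
theorem sq_23_1 : allBelow (fun c => Nat.beq (mulM xc_23_1 (mulM xc_23_1 (Nat.shiftLeft 1 c))) (Nat.shiftLeft 1 c)) 52 = true := by decide +kernel
theorem sq_24_0 : allBelow (fun c => Nat.beq (mulM xc_24_0 (mulM xc_24_0 (Nat.shiftLeft 1 c))) (Nat.shiftLeft 1 c)) 52 = true := by decide +kernel
theorem sq_24_1 : allBelow (fun c => Nat.beq (mulM xc_24_1 (mulM xc_24_1 (Nat.shiftLeft 1 c))) (Nat.shiftLeft 1 c)) 52 = true := by decide +kernel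
theorem sq_25_0 : allBelow (fun c => Nat.beq (mulM xc_25_0 (mulM xc_25_0 (Nat.shiftLeft 1 c))) (Nat.shiftLeft 1 c)) 52 = true := by decide +kernel
theorem sq_25_1 : allBelow (fun c => Nat.beq (mulM xc_25_1 (mulM xc_25_1 (Nat.shiftLeft 1 c))) (Nat.shiftLeft 1 c)) 52 = true := by decide +kernel
theorem sq_27_0 : allBelow (fun c => Nat.beq (mulM xc_27_0 (mulM xc_27_0 (Nat.shiftLeft 1 c))) (Nat.shiftLeft 1 c)) 52 = true := by decide +kernel
theorem sq_27_1 : allBelow (fun c => Nat.beq (mulM xc_27_1 (mulM xc_27_1 (Nat.shiftLeft 1 c))) (Nat.shiftLeft 1 c)) 52 = true := by decide +kernel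
theorem sq_28_0 : allBelow (fun c => Nat.beq (mulM xc_28_0 (mulM xc_28_0 (Nat.shiftLeft 1 c))) (Nat.shiftLeft 1 c)) 52 = true := by decide +kernel
theorem sq_28_1 : allBelow (fun c => Nat.beq (mulM xc_28_1 (mulM xc_28_1 (Nat.shiftLeft 1 c))) (Nat.shiftLeft 1 c)) 52 = true := by decide +kernel
theorem sq_30_0 : allBelow (fun c => Nat.beq (mulM xc_30_0 (mulM xc_30_0 (Nat.shiftLeft 1 c))) (Nat.shiftLeft 1 c)) 52 = true := by decide +kernel
theorem sq_30_1 : allBelow (fun c => Nat.beq (mulM xc_30_1 (mulM xc_30_1 (Nat.shiftLeft 1 c))) (Nat.shiftLeft 1 c)) 52 = true := by decide +kernel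
theorem sq_33_0 : allBelow (fun c => Nat.beq (mulM xc_33_0 (mulM xc_33_0 (Nat.shiftLeft 1 c))) (Nat.shiftLeft 1 c)) 52 = true := by decide +kernel
theorem sq_33_1 : allBelow (fun c => Nat.beq (mulM xc_33_1 (mulM xc_33_1 (Nat.shiftLeft 1 c))) (Nat.shiftLeft 1 c)) 52 = true := by decide +kernel

end Cfsg.Agent.Lib.Helper95.Tits
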