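import Mathlib
import Cfsg.Agent.Lib.Helper95.Tits.Defs
import Cfsg.Agent.Lib.Helper95.Tits.XColsData
import Cfsg.Agent.Lib.Helper62.RuKeyC1

/-!
# ²F₄(2) bridge: the root elements `x_r(t)` of type F₄ over `ZMod 2` as lists of columns (kernel-checked entry by entry)
-/

set_option autoImplicit false

namespace Cfsg.Agent.Lib.Helper95.Tits

open Cfsg.Lie Cfsg.Agent.Lib.Helper95.Ru Cfsg.Agent.Lib.Helper62.RuKey

theorem rank_eq : chevF4.rank = 4 := rfl
theorem nroots_eq : chevF4.nroots = 48 := rfl

/-- The coordinate with number `k`. -/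
def idxOf (k : Nat) : Ix :=
  if h : k < 4 then Sum.inl ⟨k, by rw [rank_eq]; exact h⟩
  else if h2 : k - 4 < 48 then Sum.inr ⟨k - 4, by rw [nroots_eq]; exact h2⟩
  else Sum.inl ⟨0, by rw [rank_eq]; decide⟩

theorem numOf_lt (i : Ix) : numOf i < 52 := by
  rcases i with i | r
  · have h : i.val < 4 := i.isLt
    show i.val < 52; omega
  · have h : r.val < 48 := r.isLt
    show 4 + r.val < 52; omega

theorem idxOf_numOf (i : Ix) : idxOf (numOf i) = i := by
  rcases i with i | r
  · have h : i.val < 4 := i.isLt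
    show idxOf i.val = Sum.inl i
    unfold idxOf
    rw [dif_pos h]
  · have h : r.val < 48 := r.isLt
    show idxOf (4 + r.val) = Sum.inr r
    unfold idxOf
    have h1 : ¬ (4 + r.val < 4) := by omega
    have h2 : 4 + r.val - 4 < 48 := by omega
    rw [dif_neg h1, dif_pos h2]
    congr 1
    apply Fin.ext
    show 4 + r.val - 4 = r.val
    omega

/-- Entry-by-entry comparison of a matrix with a list of columns. -/
def repMCheck (cols : List Nat) (A : Matrix Ix Ix (ZMod 2)) : Bool :=
  allBelow (fun c => allBelow (fun i =>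
    decide (A (idxOf i) (idxOf c) = if Nat.testBit (cols.getD c 0) i = true then 1 else 0)) 52) 52

theorem repM_of_check (cols : List Nat) (A : Matrix Ix Ix (ZMod 2)) (h : repMCheck cols A = true) :
    RepM cols A := by
  intro i c
  have h1 := allBelow_spec (allBelow_spec h (numOf c) (numOf_lt c)) (numOf i) (numOf_lt i)
  have h2 := of_decide_eq_true h1
  rw [idxOf_numOf, idxOf_numOf] at h2
  exact h2

set_option maxRecDepth 1000000 in
theorem repM_14_0 : RepM xc_14_0 (chevF4.x (ZMod 2) 14 0) :=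
  repM_of_check _ _ (by decide +kernel)
theorem len_14_0 : xc_14_0.length = 52 := rfl
set_option maxRecDepth 1000000 in
theorem repM_14_1 : RepM xc_14_1 (chevF4.x (ZMod 2) 14 1) :=
  repM_of_check _ _ (by decide +kernel)
theorem len_14_1 : xc_14_1.length = 52 := rfl
set_option maxRecDepth 1000000 in
theorem repM_17_0 : RepM xc_17_0 (chevF4.x (ZMod 2) 17 0) :=
  repM_of_check _ _ (by decide +kernel)
theorem len_17_0 : xc_17_0.length = 52 := rfl
set_option maxRecDepth 1000000 in
theorem repM_17_1 : RepM xc_17_1 (chevF4.x (ZMod 2) 17 1) :=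
  repM_of_check _ _ (by decide +kernel)
theorem len_17_1 : xc_17_1.length = 52 := rfl
set_option maxRecDepth 1000000 in
theorem repM_19_0 : RepM xc_19_0 (chevF4.x (ZMod 2) 19 0) :=
  repM_of_check _ _ (by decide +kernel)
theorem len_19_0 : xc_19_0.length = 52 := rfl
set_option maxRecDepth 1000000 in
theorem repM_19_1 : RepM xc_19_1 (chevF4.x (ZMod 2) 19 1) :=
  repM_of_check _ _ (by decide +kernel)
theorem len_19_1 : xc_19_1.length = 52 := rfl
set_option maxRecDepth 1000000 in
theorem repM_20_0 : RepM xc_20_0 (chevF4.x (ZMod 2) 20 0) :=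
  repM_of_check _ _ (by decide +kernel)
theorem len_20_0 : xc_20_0.length = 52 := rfl
set_option maxRecDepth 1000000 in
theorem repM_20_1 : RepM xc_20_1 (chevF4.x (ZMod 2) 20 1) :=
  repM_of_check _ _ (by decide +kernel)
theorem len_20_1 : xc_20_1.length = 52 := rfl
set_option maxRecDepth 1000000 in
theorem repM_22_0 : RepM xc_22_0 (chevF4.x (ZMod 2) 22 0) :=
  repM_of_check _ _ (by decide +kernel)
theorem len_22_0 : xc_22_0.length = 52 := rfl
set_option maxRecDepth 1000000 in
theorem repM_22_1 : RepM xc_22_1 (chevF4.x (ZMod 2) 22 1) :=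
  repM_of_check _ _ (by decide +kernel)
theorem len_22_1 : xc_22_1.length = 52 := rfl
set_option maxRecDepth 1000000 in
theorem repM_23_0 : RepM xc_23_0 (chevF4.x (ZMod 2) 23 0) :=
  repM_of_check _ _ (by decide +kernel)
theorem len_23_0 : xc_23_0.length = 52 := rfl
set_option maxRecDepth 1000000 in
theorem repM_23_1 : RepM xc_23_1 (chevF4.x (ZMod 2) 23 1) :=
  repM_of_check _ _ (by decide +kernel)
theorem len_23_1 : xc_23_1.length = 52 := rfl
set_option maxRecDepth 1000000 in
theorem repM_24_0 : RepM xc_24_0 (chevF4.x (ZMod 2) 24 0) :=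
  repM_of_check _ _ (by decide +kernel)
theorem len_24_0 : xc_24_0.length = 52 := rfl
set_option maxRecDepth 1000000 in
theorem repM_24_1 : RepM xc_24_1 (chevF4.x (ZMod 2) 24 1) :=
  repM_of_check _ _ (by decide +kernel)
theorem len_24_1 : xc_24_1.length = 52 := rfl
set_option maxRecDepth 1000000 in
theorem repM_25_0 : RepM xc_25_0 (chevF4.x (ZMod 2) 25 0) :=
  repM_of_check _ _ (by decide +kernel)
theorem len_25_0 : xc_25_0.length = 52 := rfl
set_option maxRecDepth 1000000 in
theorem repM_25_1 : RepM xc_25_1 (chevF4.x (ZMod 2) 25 1) :=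
  repM_of_check _ _ (by decide +kernel)
theorem len_25_1 : xc_25_1.length = 52 := rfl
set_option maxRecDepth 1000000 in
theorem repM_27_0 : RepM xc_27_0 (chevF4.x (ZMod 2) 27 0) :=
  repM_of_check _ _ (by decide +kernel)
theorem len_27_0 : xc_27_0.length = 52 := rfl
set_option maxRecDepth 1000000 in
theorem repM_27_1 : RepM xc_27_1 (chevF4.x (ZMod 2) 27 1) :=
  repM_of_check _ _ (by decide +kernel)
theorem len_27_1 : xc_27_1.length = 52 := rfl
set_option maxRecDepth 1000000 in
theorem repM_28_0 : RepM xc_28_0 (chevF4.x (ZMod 2) 28 0) :=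
  repM_of_check _ _ (by decide +kernel)
theorem len_28_0 : xc_28_0.length = 52 := rfl
set_option maxRecDepth 1000000 in
theorem repM_28_1 : RepM xc_28_1 (chevF4.x (ZMod 2) 28 1) :=
  repM_of_check _ _ (by decide +kernel)
theorem len_28_1 : xc_28_1.length = 52 := rfl
set_option maxRecDepth 1000000 in
theorem repM_30_0 : RepM xc_30_0 (chevF4.x (ZMod 2) 30 0) :=
  repM_of_check _ _ (by decide +kernel)
theorem len_30_0 : xc_30_0.length = 52 := rfl
set_option maxRecDepth 1000000 in
theorem repM_30_1 : RepM xc_30_1 (chevF4.x (ZMod 2) 30 1) :=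
  repM_of_check _ _ (by decide +kernel)
theorem len_30_1 : xc_30_1.length = 52 := rfl
set_option maxRecDepth 1000000 in
theorem repM_33_0 : RepM xc_33_0 (chevF4.x (ZMod 2) 33 0) :=
  repM_of_check _ _ (by decide +kernel)
theorem len_33_0 : xc_33_0.length = 52 := rfl
set_option maxRecDepth 1000000 in
theorem repM_33_1 : RepM xc_33_1 (chevF4.x (ZMod 2) 33 1) :=
  repM_of_check _ _ (by decide +kernel)
theorem len_33_1 : xc_33_1.length = 52 := rfl

end Cfsg.Agent.Lib.Helper95.Tits
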