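import Mathlib
import Cfsg.Agent.Lib.Helper95.Ru.MainH
import Cfsg.Agent.Lib.Helper95.Ru.MainT
import Cfsg.Agent.Lib.Helper95.Tits.XCols
import Cfsg.Agent.Lib.Helper95.Tits.Chk
import Cfsg.Agent.Lib.Helper95.Tits.ChkSq
import Cfsg.Agent.Lib.Helper96.TitsKeyT2
import Cfsg.Agent.Lib.Helper97.TitsKeyT3

/-!
# ²F₄(2) bridge: `twistedF4 (ZMod 2) 1 ≃* K2`, the point stabiliser of the Rudvalis pack (helper95)
-/

set_option autoImplicit false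

namespace Cfsg.Agent.Lib.Helper95.Tits

open Cfsg.Lie Cfsg.Agent.Lib.Helper95.Ru Cfsg.Agent.Lib.Helper62.RuKey Cfsg.Agent.Lib.Helper66.RuKey
  Cfsg.Agent.Lib.Helper63.RuKey Cfsg.Agent.Lib.Helper96.TitsKey

local notation "KH2" => Subgroup.closure (genSet GH2)
local notation "KH3" => Subgroup.closure (genSet GH3)
local notation "KH4" => Subgroup.closure (genSet GH4)

/-- The vector of a point. -/
def vec (x : Fin 4060) : V := toVec (vt VT x.val)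
/-- The suborbit of length 1755. -/
def inR (x : Fin 4060) : Prop := inOrb hW2 x.val = true

/-! ### root elements are involutions, words are invertible -/

theorem mul_self_of_check (cols : List Nat) (A : Matrix Ix Ix (ZMod 2)) (h : RepM cols A)
    (hlen : cols.length = 52)
    (hc : allBelow (fun c => Nat.beq (mulM cols (mulM cols (Nat.shiftLeft 1 c))) (Nat.shiftLeft 1 c)) 52 = true) :
    A * A = 1 := by
  ext i c
  have h1 : (A * A).mulVec (Pi.single c 1) = Pi.single c 1 := by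
    rw [← Matrix.mulVec_mulVec, ← toVec_single, mulVec_toVec cols A h hlen, mulVec_toVec cols A h hlen]
    congr 1
    exact Nat.eq_of_beq_eq_true (allBelow_spec hc (numOf c) (Cfsg.Agent.Lib.Helper95.Tits.numOf_lt c))
  have h2 := congrFun h1 i
  rw [Matrix.mulVec_single_one] at h2
  rw [Matrix.one_apply]
  simp only [Matrix.col_apply] at h2
  rw [h2, Pi.single_apply]

theorem exists_unit_wordMat (w : List (ℕ × ZMod 2))
    (h : ∀ p ∈ w, chevF4.x (ZMod 2) p.1 p.2 * chevF4.x (ZMod 2) p.1 p.2 = 1) :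
    ∃ A : GL Ix (ZMod 2), (A : Matrix Ix Ix (ZMod 2)) = chevF4.wordMat (ZMod 2) w := by
  induction w with
  | nil => exact ⟨1, by simp [ChevalleyDatum.wordMat]⟩
  | cons p w ih =>
    obtain ⟨A', hA'⟩ := ih (fun q hq => h q (List.mem_cons_of_mem _ hq))
    have hp := h p List.mem_cons_self
    refine ⟨⟨_, _, hp, hp⟩ * A', ?_⟩
    rw [Units.val_mul, hA']
    simp [ChevalleyDatum.wordMat]

theorem xsq_14_0 : chevF4.x (ZMod 2) 14 0 * chevF4.x (ZMod 2) 14 0 = 1 :=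
  mul_self_of_check _ _ repM_14_0 len_14_0 sq_14_0
theorem xsq_14_1 : chevF4.x (ZMod 2) 14 1 * chevF4.x (ZMod 2) 14 1 = 1 :=
  mul_self_of_check _ _ repM_14_1 len_14_1 sq_14_1
theorem xsq_17_0 : chevF4.x (ZMod 2) 17 0 * chevF4.x (ZMod 2) 17 0 = 1 :=
  mul_self_of_check _ _ repM_17_0 len_17_0 sq_17_0
theorem xsq_17_1 : chevF4.x (ZMod 2) 17 1 * chevF4.x (ZMod 2) 17 1 = 1 :=
  mul_self_of_check _ _ repM_17_1 len_17_1 sq_17_1
theorem xsq_19_0 : chevF4.x (ZMod 2) 19 0 * chevF4.x (ZMod 2) 19 0 = 1 :=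
  mul_self_of_check _ _ repM_19_0 len_19_0 sq_19_0
theorem xsq_19_1 : chevF4.x (ZMod 2) 19 1 * chevF4.x (ZMod 2) 19 1 = 1 :=
  mul_self_of_check _ _ repM_19_1 len_19_1 sq_19_1
theorem xsq_20_0 : chevF4.x (ZMod 2) 20 0 * chevF4.x (ZMod 2) 20 0 = 1 :=
  mul_self_of_check _ _ repM_20_0 len_20_0 sq_20_0
theorem xsq_20_1 : chevF4.x (ZMod 2) 20 1 * chevF4.x (ZMod 2) 20 1 = 1 :=
  mul_self_of_check _ _ repM_20_1 len_20_1 sq_20_1
theorem xsq_22_0 : chevF4.x (ZMod 2) 22 0 * chevF4.x (ZMod 2) 22 0 = 1 :=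
  mul_self_of_check _ _ repM_22_0 len_22_0 sq_22_0
theorem xsq_22_1 : chevF4.x (ZMod 2) 22 1 * chevF4.x (ZMod 2) 22 1 = 1 :=
  mul_self_of_check _ _ repM_22_1 len_22_1 sq_22_1
theorem xsq_23_0 : chevF4.x (ZMod 2) 23 0 * chevF4.x (ZMod 2) 23 0 = 1 :=
  mul_self_of_check _ _ repM_23_0 len_23_0 sq_23_0
theorem xsq_23_1 : chevF4.x (ZMod 2) 23 1 * chevF4.x (ZMod 2) 23 1 = 1 :=
  mul_self_of_check _ _ repM_23_1 len_23_1 sq_23_1
theorem xsq_24_0 : chevF4.x (ZMod 2) 24 0 * chevF4.x (ZMod 2) 24 0 = 1 :=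
  mul_self_of_check _ _ repM_24_0 len_24_0 sq_24_0
theorem xsq_24_1 : chevF4.x (ZMod 2) 24 1 * chevF4.x (ZMod 2) 24 1 = 1 :=
  mul_self_of_check _ _ repM_24_1 len_24_1 sq_24_1
theorem xsq_25_0 : chevF4.x (ZMod 2) 25 0 * chevF4.x (ZMod 2) 25 0 = 1 :=
  mul_self_of_check _ _ repM_25_0 len_25_0 sq_25_0
theorem xsq_25_1 : chevF4.x (ZMod 2) 25 1 * chevF4.x (ZMod 2) 25 1 = 1 :=
  mul_self_of_check _ _ repM_25_1 len_25_1 sq_25_1
theorem xsq_27_0 : chevF4.x (ZMod 2) 27 0 * chevF4.x (ZMod 2) 27 0 = 1 :=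
  mul_self_of_check _ _ repM_27_0 len_27_0 sq_27_0
theorem xsq_27_1 : chevF4.x (ZMod 2) 27 1 * chevF4.x (ZMod 2) 27 1 = 1 :=
  mul_self_of_check _ _ repM_27_1 len_27_1 sq_27_1
theorem xsq_28_0 : chevF4.x (ZMod 2) 28 0 * chevF4.x (ZMod 2) 28 0 = 1 :=
  mul_self_of_check _ _ repM_28_0 len_28_0 sq_28_0
theorem xsq_28_1 : chevF4.x (ZMod 2) 28 1 * chevF4.x (ZMod 2) 28 1 = 1 :=
  mul_self_of_check _ _ repM_28_1 len_28_1 sq_28_1
theorem xsq_30_0 : chevF4.x (ZMod 2) 30 0 * chevF4.x (ZMod 2) 30 0 = 1 :=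
  mul_self_of_check _ _ repM_30_0 len_30_0 sq_30_0
theorem xsq_30_1 : chevF4.x (ZMod 2) 30 1 * chevF4.x (ZMod 2) 30 1 = 1 :=
  mul_self_of_check _ _ repM_30_1 len_30_1 sq_30_1
theorem xsq_33_0 : chevF4.x (ZMod 2) 33 0 * chevF4.x (ZMod 2) 33 0 = 1 :=
  mul_self_of_check _ _ repM_33_0 len_33_0 sq_33_0
theorem xsq_33_1 : chevF4.x (ZMod 2) 33 1 * chevF4.x (ZMod 2) 33 1 = 1 :=
  mul_self_of_check _ _ repM_33_1 len_33_1 sq_33_1

/-! ### the generators as permutations in `K2` -/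

noncomputable def gb_pp1 : P := mkPerm bT_pp1 bT_pp1i valid_b_pp1
noncomputable def gb_pm1 : P := mkPerm bT_pm1 bT_pm1i valid_b_pm1
noncomputable def gb_cp01 : P := mkPerm bT_cp01 bT_cp01i valid_b_cp01
noncomputable def gb_cm01 : P := mkPerm bT_cm01 bT_cm01i valid_b_cm01
noncomputable def gb_cp10 : P := mkPerm bT_cp10 bT_cp10i valid_b_cp10
noncomputable def gb_cm10 : P := mkPerm bT_cm10 bT_cm10i valid_b_cm10
noncomputable def gb_cp11 : P := mkPerm bT_cp11 bT_cp11i valid_b_cp11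
noncomputable def gb_cm11 : P := mkPerm bT_cm11 bT_cm11i valid_b_cm11
noncomputable def GB : List P := [gb_pp1, gb_pm1, gb_cp01, gb_cm01, gb_cp10, gb_cm10, gb_cp11, gb_cm11]

theorem repL_b : RepL bLT GB :=
  (List.Forall₂.cons ⟨rep_mkPerm _ _ _, rep_mkPerm_inv _ _ _⟩ (List.Forall₂.cons ⟨rep_mkPerm _ _ _, rep_mkPerm_inv _ _ _⟩ (List.Forall₂.cons ⟨rep_mkPerm _ _ _, rep_mkPerm_inv _ _ _⟩ (List.Forall₂.cons ⟨rep_mkPerm _ _ _, rep_mkPerm_inv _ _ _⟩ (List.Forall₂.cons ⟨rep_mkPerm _ _ _, rep_mkPerm_inv _ _ _⟩ (List.Forall₂.cons ⟨rep_mkPerm _ _ _, rep_mkPerm_inv _ _ _⟩ (List.Forall₂.cons ⟨rep_mkPerm _ _ _, rep_mkPerm_inv _ _ _⟩ (List.Forall₂.cons ⟨rep_mkPerm _ _ _, rep_mkPerm_inv _ _ _⟩ List.Forall₂.nil))))))))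

theorem repL_all : RepL (hLT2 ++ hLT3 ++ hLT4) (GH2 ++ GH3 ++ GH4) :=
  List.rel_append (List.rel_append repL_h2 repL_h3) repL_h4

theorem all_mem : ∀ g ∈ GH2 ++ GH3 ++ GH4, g ∈ KH2 := by
  intro g hg
  simp only [List.mem_append] at hg
  rcases hg with (h | h) | h
  · exact mem_genSet_closure GH2 g h
  · exact KH3_le (mem_genSet_closure GH3 g h)
  · exact KH3_le (KH4_le (mem_genSet_closure GH4 g h))

theorem gb_mem_pp1 : gb_pp1 ∈ KH2 :=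
  mem_of_wordCheck (hLT2 ++ hLT3 ++ hLT4) (GH2 ++ GH3 ++ GH4) repL_all bT_pp1 gb_pp1 (rep_mkPerm _ _ _) _ word_b_pp1 KH2 all_mem
theorem gb_mem_pm1 : gb_pm1 ∈ KH2 :=
  mem_of_wordCheck (hLT2 ++ hLT3 ++ hLT4) (GH2 ++ GH3 ++ GH4) repL_all bT_pm1 gb_pm1 (rep_mkPerm _ _ _) _ word_b_pm1 KH2 all_mem
theorem gb_mem_cp01 : gb_cp01 ∈ KH2 :=
  mem_of_wordCheck (hLT2 ++ hLT3 ++ hLT4) (GH2 ++ GH3 ++ GH4) repL_all bT_cp01 gb_cp01 (rep_mkPerm _ _ _) _ word_b_cp01 KH2 all_mem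
theorem gb_mem_cm01 : gb_cm01 ∈ KH2 :=
  mem_of_wordCheck (hLT2 ++ hLT3 ++ hLT4) (GH2 ++ GH3 ++ GH4) repL_all bT_cm01 gb_cm01 (rep_mkPerm _ _ _) _ word_b_cm01 KH2 all_mem
theorem gb_mem_cp10 : gb_cp10 ∈ KH2 :=
  mem_of_wordCheck (hLT2 ++ hLT3 ++ hLT4) (GH2 ++ GH3 ++ GH4) repL_all bT_cp10 gb_cp10 (rep_mkPerm _ _ _) _ word_b_cp10 KH2 all_mem
theorem gb_mem_cm10 : gb_cm10 ∈ KH2 :=
  mem_of_wordCheck (hLT2 ++ hLT3 ++ hLT4) (GH2 ++ GH3 ++ GH4) repL_all bT_cm10 gb_cm10 (rep_mkPerm _ _ _) _ word_b_cm10 KH2 all_mem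
theorem gb_mem_cp11 : gb_cp11 ∈ KH2 :=
  mem_of_wordCheck (hLT2 ++ hLT3 ++ hLT4) (GH2 ++ GH3 ++ GH4) repL_all bT_cp11 gb_cp11 (rep_mkPerm _ _ _) _ word_b_cp11 KH2 all_mem
theorem gb_mem_cm11 : gb_cm11 ∈ KH2 :=
  mem_of_wordCheck (hLT2 ++ hLT3 ++ hLT4) (GH2 ++ GH3 ++ GH4) repL_all bT_cm11 gb_cm11 (rep_mkPerm _ _ _) _ word_b_cm11 KH2 all_mem

/-! ### compatibility of the generators with the vectors -/

theorem compat_aux (w : List (ℕ × ZMod 2)) (ms : List (List Nat))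
    (h : List.Forall₂ (fun p cols => RepM cols (chevF4.x (ZMod 2) p.1 p.2) ∧ cols.length = 52) w ms)
    (T : Nat) (g : P) (hg : Rep T g)
    (hact : allBelow (fun x => !(inOrb hW2 x) || Nat.beq (applyCols ms (vt VT x)) (vt VT (tb T x))) 4060 = true)
    (x : Fin 4060) (hx : inR x) : (chevF4.wordMat (ZMod 2) w).mulVec (vec x) = vec (g x) := by
  unfold vec
  rw [wordMat_mulVec w ms h, hg x]
  have h2 := allBelow_spec hact x.val x.isLt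
  have hx' : inOrb hW2 x.val = true := hx
  rw [hx'] at h2
  simp only [Bool.not_true, Bool.false_or] at h2
  rw [Nat.eq_of_beq_eq_true h2]

theorem compat_pp0 : ∀ x, inR x → (chevF4.wordMat (ZMod 2) [(33, 0), (24, 0)]).mulVec (vec x) = vec ((1 : P) x) :=
  compat_aux _ [xc_33_0, xc_24_0] (List.Forall₂.cons ⟨repM_33_0, len_33_0⟩ (List.Forall₂.cons ⟨repM_24_0, len_24_0⟩ List.Forall₂.nil)) tId 1 rep_tId act_pp0
theorem compat_pm0 : ∀ x, inR x → (chevF4.wordMat (ZMod 2) [(14, 0), (23, 0)]).mulVec (vec x) = vec ((1 : P) x) :=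
  compat_aux _ [xc_14_0, xc_23_0] (List.Forall₂.cons ⟨repM_14_0, len_14_0⟩ (List.Forall₂.cons ⟨repM_23_0, len_23_0⟩ List.Forall₂.nil)) tId 1 rep_tId act_pm0
theorem compat_pp1 : ∀ x, inR x → (chevF4.wordMat (ZMod 2) [(33, 1), (24, 1)]).mulVec (vec x) = vec (gb_pp1 x) :=
  compat_aux _ [xc_33_1, xc_24_1] (List.Forall₂.cons ⟨repM_33_1, len_33_1⟩ (List.Forall₂.cons ⟨repM_24_1, len_24_1⟩ List.Forall₂.nil)) bT_pp1 gb_pp1 (rep_mkPerm _ _ _) act_pp1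
theorem compat_pm1 : ∀ x, inR x → (chevF4.wordMat (ZMod 2) [(14, 1), (23, 1)]).mulVec (vec x) = vec (gb_pm1 x) :=
  compat_aux _ [xc_14_1, xc_23_1] (List.Forall₂.cons ⟨repM_14_1, len_14_1⟩ (List.Forall₂.cons ⟨repM_23_1, len_23_1⟩ List.Forall₂.nil)) bT_pm1 gb_pm1 (rep_mkPerm _ _ _) act_pm1
theorem compat_cp00 : ∀ x, inR x → (chevF4.wordMat (ZMod 2) [(27, 0), (25, 0), (28, 0), (30, 0)]).mulVec (vec x) = vec ((1 : P) x) :=
  compat_aux _ [xc_27_0, xc_25_0, xc_28_0, xc_30_0] (List.Forall₂.cons ⟨repM_27_0, len_27_0⟩ (List.Forall₂.cons ⟨repM_25_0, len_25_0⟩ (List.Forall₂.cons ⟨repM_28_0, len_28_0⟩ (List.Forall₂.cons ⟨repM_30_0, len_30_0⟩ List.Forall₂.nil)))) tId 1 rep_tId act_cp00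
theorem compat_cm00 : ∀ x, inR x → (chevF4.wordMat (ZMod 2) [(20, 0), (22, 0), (19, 0), (17, 0)]).mulVec (vec x) = vec ((1 : P) x) :=
  compat_aux _ [xc_20_0, xc_22_0, xc_19_0, xc_17_0] (List.Forall₂.cons ⟨repM_20_0, len_20_0⟩ (List.Forall₂.cons ⟨repM_22_0, len_22_0⟩ (List.Forall₂.cons ⟨repM_19_0, len_19_0⟩ (List.Forall₂.cons ⟨repM_17_0, len_17_0⟩ List.Forall₂.nil)))) tId 1 rep_tId act_cm00
theorem compat_cp01 : ∀ x, inR x → (chevF4.wordMat (ZMod 2) [(27, 0), (25, 0), (28, 1), (30, 1)]).mulVec (vec x) = vec (gb_cp01 x) :=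
  compat_aux _ [xc_27_0, xc_25_0, xc_28_1, xc_30_1] (List.Forall₂.cons ⟨repM_27_0, len_27_0⟩ (List.Forall₂.cons ⟨repM_25_0, len_25_0⟩ (List.Forall₂.cons ⟨repM_28_1, len_28_1⟩ (List.Forall₂.cons ⟨repM_30_1, len_30_1⟩ List.Forall₂.nil)))) bT_cp01 gb_cp01 (rep_mkPerm _ _ _) act_cp01
theorem compat_cm01 : ∀ x, inR x → (chevF4.wordMat (ZMod 2) [(20, 0), (22, 0), (19, 1), (17, 1)]).mulVec (vec x) = vec (gb_cm01 x) :=
  compat_aux _ [xc_20_0, xc_22_0, xc_19_1, xc_17_1] (List.Forall₂.cons ⟨repM_20_0, len_20_0⟩ (List.Forall₂.cons ⟨repM_22_0, len_22_0⟩ (List.Forall₂.cons ⟨repM_19_1, len_19_1⟩ (List.Forall₂.cons ⟨repM_17_1, len_17_1⟩ List.Forall₂.nil)))) bT_cm01 gb_cm01 (rep_mkPerm _ _ _) act_cm01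
theorem compat_cp10 : ∀ x, inR x → (chevF4.wordMat (ZMod 2) [(27, 1), (25, 1), (28, 1), (30, 0)]).mulVec (vec x) = vec (gb_cp10 x) :=
  compat_aux _ [xc_27_1, xc_25_1, xc_28_1, xc_30_0] (List.Forall₂.cons ⟨repM_27_1, len_27_1⟩ (List.Forall₂.cons ⟨repM_25_1, len_25_1⟩ (List.Forall₂.cons ⟨repM_28_1, len_28_1⟩ (List.Forall₂.cons ⟨repM_30_0, len_30_0⟩ List.Forall₂.nil)))) bT_cp10 gb_cp10 (rep_mkPerm _ _ _) act_cp10
theorem compat_cm10 : ∀ x, inR x → (chevF4.wordMat (ZMod 2) [(20, 1), (22, 1), (19, 1), (17, 0)]).mulVec (vec x) = vec (gb_cm10 x) :=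
  compat_aux _ [xc_20_1, xc_22_1, xc_19_1, xc_17_0] (List.Forall₂.cons ⟨repM_20_1, len_20_1⟩ (List.Forall₂.cons ⟨repM_22_1, len_22_1⟩ (List.Forall₂.cons ⟨repM_19_1, len_19_1⟩ (List.Forall₂.cons ⟨repM_17_0, len_17_0⟩ List.Forall₂.nil)))) bT_cm10 gb_cm10 (rep_mkPerm _ _ _) act_cm10
theorem compat_cp11 : ∀ x, inR x → (chevF4.wordMat (ZMod 2) [(27, 1), (25, 1), (28, 0), (30, 1)]).mulVec (vec x) = vec (gb_cp11 x) :=
  compat_aux _ [xc_27_1, xc_25_1, xc_28_0, xc_30_1] (List.Forall₂.cons ⟨repM_27_1, len_27_1⟩ (List.Forall₂.cons ⟨repM_25_1, len_25_1⟩ (List.Forall₂.cons ⟨repM_28_0, len_28_0⟩ (List.Forall₂.cons ⟨repM_30_1, len_30_1⟩ List.Forall₂.nil)))) bT_cp11 gb_cp11 (rep_mkPerm _ _ _) act_cp11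
theorem compat_cm11 : ∀ x, inR x → (chevF4.wordMat (ZMod 2) [(20, 1), (22, 1), (19, 0), (17, 1)]).mulVec (vec x) = vec (gb_cm11 x) :=
  compat_aux _ [xc_20_1, xc_22_1, xc_19_0, xc_17_1] (List.Forall₂.cons ⟨repM_20_1, len_20_1⟩ (List.Forall₂.cons ⟨repM_22_1, len_22_1⟩ (List.Forall₂.cons ⟨repM_19_0, len_19_0⟩ (List.Forall₂.cons ⟨repM_17_1, len_17_1⟩ List.Forall₂.nil)))) bT_cm11 gb_cm11 (rep_mkPerm _ _ _) act_cm11

end Cfsg.Agent.Lib.Helper95.Tits
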