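import Cfsg.Agent.Lib.Helper95.Tits.Defs
import Cfsg.Agent.Lib.Helper95.Tits.Data
import Cfsg.Agent.Lib.Helper95.Tits.XColsData
import Cfsg.Agent.Lib.Helper95.Ru.DataH

set_option autoImplicit false

namespace Cfsg.Agent.Lib.Helper95.Tits

open Cfsg.Agent.Lib.Helper95.Ru

set_option maxRecDepth 1000000 in
theorem valid_b_pp1 : validPair bT_pp1 bT_pp1i = true := by decide +kernel
set_option maxRecDepth 1000000 in
theorem word_b_pp1 : wordCheck bT_pp1 (wT (hLT2 ++ hLT3 ++ hLT4) [10, 10, 5, 5, 6, 9, 4, 6, 1, 1, 3, 3, 0]) = true := by decide +kernel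
set_option maxRecDepth 1000000 in
theorem valid_b_pm1 : validPair bT_pm1 bT_pm1i = true := by decide +kernel
set_option maxRecDepth 1000000 in
theorem word_b_pm1 : wordCheck bT_pm1 (wT (hLT2 ++ hLT3 ++ hLT4) [11, 12, 12, 5, 8, 8, 4, 6]) = true := by decide +kernel
set_option maxRecDepth 1000000 in
theorem valid_b_cp01 : validPair bT_cp01 bT_cp01i = true := by decide +kernel
set_option maxRecDepth 1000000 in
theorem word_b_cp01 : wordCheck bT_cp01 (wT (hLT2 ++ hLT3 ++ hLT4) [12, 11, 12, 5, 9, 5, 6, 9]) = true := by decide +kernel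
set_option maxRecDepth 1000000 in
theorem valid_b_cm01 : validPair bT_cm01 bT_cm01i = true := by decide +kernel
set_option maxRecDepth 1000000 in
theorem word_b_cm01 : wordCheck bT_cm01 (wT (hLT2 ++ hLT3 ++ hLT4) [10, 12, 12, 8, 4, 6, 9, 5]) = true := by decide +kernel
set_option maxRecDepth 1000000 in
theorem valid_b_cp10 : validPair bT_cp10 bT_cp10i = true := by decide +kernel
set_option maxRecDepth 1000000 in
theorem word_b_cp10 : wordCheck bT_cp10 (wT (hLT2 ++ hLT3 ++ hLT4) [12, 10, 12, 5, 6, 9, 5]) = true := by decide +kernel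
set_option maxRecDepth 1000000 in
theorem valid_b_cm10 : validPair bT_cm10 bT_cm10i = true := by decide +kernel
set_option maxRecDepth 1000000 in
theorem word_b_cm10 : wordCheck bT_cm10 (wT (hLT2 ++ hLT3 ++ hLT4) [12, 10, 4, 8, 6, 5, 9]) = true := by decide +kernel
set_option maxRecDepth 1000000 in
theorem valid_b_cp11 : validPair bT_cp11 bT_cp11i = true := by decide +kernel
set_option maxRecDepth 1000000 in
theorem word_b_cp11 : wordCheck bT_cp11 (wT (hLT2 ++ hLT3 ++ hLT4) [13, 11, 5, 5, 9, 9]) = true := by decide +kernel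
set_option maxRecDepth 1000000 in
theorem valid_b_cm11 : validPair bT_cm11 bT_cm11i = true := by decide +kernel
set_option maxRecDepth 1000000 in
theorem word_b_cm11 : wordCheck bT_cm11 (wT (hLT2 ++ hLT3 ++ hLT4) [13, 4, 6, 8, 5, 9]) = true := by decide +kernel

end Cfsg.Agent.Lib.Helper95.Tits
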