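import Mathlib
import Cfsg.Agent.Lib.Helper95.Tits.Bridge

/-!
# ²F₄(2) bridge: the isomorphism `twistedF4 (ZMod 2) 1 ≃* K2` (helper95)
-/

set_option autoImplicit false

namespace Cfsg.Agent.Lib.Helper95.Tits

open Cfsg.Lie Cfsg.Agent.Lib.Helper95.Ru Cfsg.Agent.Lib.Helper62.RuKey Cfsg.Agent.Lib.Helper66.RuKey
  Cfsg.Agent.Lib.Helper63.RuKey Cfsg.Agent.Lib.Helper96.TitsKey

local notation "KH2" => Subgroup.closure (genSet GH2)
local notation "KH3" => Subgroup.closure (genSet GH3)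
local notation "KH4" => Subgroup.closure (genSet GH4)

/-- The generating set of `twistedF4 (ZMod 2) 1`. -/
def SF : Set (GL Ix (ZMod 2)) :=
  {g | ∃ w ∈ f4Words (ZMod 2) 1, (g : Matrix Ix Ix (ZMod 2)) = chevF4.wordMat (ZMod 2) w}

theorem twistedF4_eq : twistedF4 (ZMod 2) 1 = Subgroup.closure SF := rfl

theorem weq_pp0 : f4PairWord 1 f4p1 f4p4 (0 : ZMod 2) = [(33, 0), (24, 0)] := by decide
theorem weq_pm0 : f4PairWord 1 f4m1 f4m4 (0 : ZMod 2) = [(14, 0), (23, 0)] := by decide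
theorem weq_pp1 : f4PairWord 1 f4p1 f4p4 (1 : ZMod 2) = [(33, 1), (24, 1)] := by decide
theorem weq_pm1 : f4PairWord 1 f4m1 f4m4 (1 : ZMod 2) = [(14, 1), (23, 1)] := by decide
theorem weq_cp00 : b2ClassWord 1 f4a f4b f4ab f4aab (0 : ZMod 2) (0 : ZMod 2) = [(27, 0), (25, 0), (28, 0), (30, 0)] := by decide
theorem weq_cm00 : b2ClassWord 1 f4ma f4mb f4mab f4maab (0 : ZMod 2) (0 : ZMod 2) = [(20, 0), (22, 0), (19, 0), (17, 0)] := by decide
theorem weq_cp01 : b2ClassWord 1 f4a f4b f4ab f4aab (0 : ZMod 2) (1 : ZMod 2) = [(27, 0), (25, 0), (28, 1), (30, 1)] := by decide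
theorem weq_cm01 : b2ClassWord 1 f4ma f4mb f4mab f4maab (0 : ZMod 2) (1 : ZMod 2) = [(20, 0), (22, 0), (19, 1), (17, 1)] := by decide
theorem weq_cp10 : b2ClassWord 1 f4a f4b f4ab f4aab (1 : ZMod 2) (0 : ZMod 2) = [(27, 1), (25, 1), (28, 1), (30, 0)] := by decide
theorem weq_cm10 : b2ClassWord 1 f4ma f4mb f4mab f4maab (1 : ZMod 2) (0 : ZMod 2) = [(20, 1), (22, 1), (19, 1), (17, 0)] := by decide
theorem weq_cp11 : b2ClassWord 1 f4a f4b f4ab f4aab (1 : ZMod 2) (1 : ZMod 2) = [(27, 1), (25, 1), (28, 0), (30, 1)] := by decide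
theorem weq_cm11 : b2ClassWord 1 f4ma f4mb f4mab f4maab (1 : ZMod 2) (1 : ZMod 2) = [(20, 1), (22, 1), (19, 0), (17, 1)] := by decide

theorem hinv_K2 : ∀ σ ∈ KH2, ∀ x, inR x → inR (σ x) := fun σ hσ x hx =>
  closure_mapsTo hW2 GH2 (fun g hg x hx => gen_mapsTo Bpts hL2 [hL3, hL4] GH2 repL_h2 lvl_h2 g hg x hx) σ hσ x hx

theorem hfaith_K2 : ∀ σ ∈ KH2, (∀ x, inR x → σ x = x) → σ = 1 := by
  intro σ hσ h
  have m3 : σ ∈ KH3 := sound_h2.2.1 σ hσ (h ⟨2, by decide⟩ root_h2.1)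
  have m4 : σ ∈ KH4 := sound_h3.2.1 σ m3 (h ⟨3, by decide⟩ inR3)
  have m5 : σ ∈ (⊥ : Subgroup P) := sound_h4.2.1 σ m4 (h ⟨5, by decide⟩ inR5)
  exact Subgroup.mem_bot.mp m5

/-! ### injectivity of the vectors (sorted-order certificate) -/

theorem sorted_lt : ∀ d i, i + d + 1 ≤ 1754 → vt VT (tb SLT i) < vt VT (tb SLT (i + d + 1)) := by
  intro d
  induction d with
  | zero =>
    intro i hi
    have h := allBelow_spec inj_sorted i (by omega)
    simpa using h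
  | succ d ih =>
    intro i hi
    have h1 := ih i (by omega)
    have h2 := allBelow_spec inj_sorted (i + d + 1) (by omega)
    have h3 : vt VT (tb SLT (i + d + 1)) < vt VT (tb SLT (i + d + 1 + 1)) := by simpa using h2
    exact lt_trans h1 h3

theorem hinj_vec : ∀ x y, inR x → inR y → vec x = vec y → x = y := by
  intro x y hx hy h
  have hlt : ∀ z : Fin 4060, vt VT z.val < 2 ^ 52 := by
    intro z
    have := allBelow_spec vt_lt z.val z.isLt
    simpa using this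
  have hv : vt VT x.val = vt VT y.val := toVec_inj _ _ (hlt x) (hlt y) h
  have px := allBelow_spec inj_pos x.val x.isLt
  have py := allBelow_spec inj_pos y.val y.isLt
  have hx' : inOrb hW2 x.val = true := hx
  have hy' : inOrb hW2 y.val = true := hy
  rw [hx'] at px
  rw [hy'] at py
  simp only [Bool.not_true, Bool.false_or, Bool.and_eq_true, Nat.blt_eq] at px py
  have ex : tb SLT (tb POST x.val) = x.val := Nat.eq_of_beq_eq_true px.2
  have ey : tb SLT (tb POST y.val) = y.val := Nat.eq_of_beq_eq_true py.2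
  have hpos : tb POST x.val = tb POST y.val := by
    by_contra hne
    rcases Nat.lt_or_gt_of_ne hne with hl | hl
    · obtain ⟨d, hd⟩ : ∃ d, tb POST y.val = tb POST x.val + d + 1 := ⟨tb POST y.val - tb POST x.val - 1, by omega⟩
      have := sorted_lt d (tb POST x.val) (by omega)
      rw [← hd, ex, ey, hv] at this
      exact lt_irrefl _ this
    · obtain ⟨d, hd⟩ : ∃ d, tb POST x.val = tb POST y.val + d + 1 := ⟨tb POST x.val - tb POST y.val - 1, by omega⟩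
      have := sorted_lt d (tb POST y.val) (by omega)
      rw [← hd, ex, ey, hv] at this
      exact lt_irrefl _ this
  apply Fin.ext
  rw [← ex, ← ey, hpos]

/-! ### the vectors span -/

theorem hspan_vec : Submodule.span (ZMod 2) {v : V | ∃ x, inR x ∧ v = vec x} = ⊤ := by
  rw [eq_top_iff]
  have hsub : {u : V | ∃ c ∈ B52.map (vt VT), u = toVec c} ⊆ {v : V | ∃ x, inR x ∧ v = vec x} := by
    rintro u ⟨c, hc, rfl⟩
    obtain ⟨b, hb, rfl⟩ := List.mem_map.mp hc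
    have h := List.all_eq_true.mp b52_inR b hb
    simp only [Bool.and_eq_true, Nat.blt_eq] at h
    exact ⟨⟨b, h.1⟩, h.2, rfl⟩
  have hsingle : ∀ i : Ix, (Pi.single i 1 : V) ∈ Submodule.span (ZMod 2) {v : V | ∃ x, inR x ∧ v = vec x} := by
    intro i
    rw [← toVec_single]
    have h := Nat.eq_of_beq_eq_true (allBelow_spec span52 (numOf i) (Cfsg.Agent.Lib.Helper95.Tits.numOf_lt i))
    rw [← h]
    exact Submodule.span_mono hsub (toVec_mulM_mem_span _ _)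
  intro v _
  have hv : v = ∑ i, v i • (Pi.single i 1 : V) := by
    funext j
    simp [Finset.sum_apply, Pi.single_apply]
  rw [hv]
  exact Submodule.sum_mem _ (fun i _ => Submodule.smul_mem _ _ (hsingle i))

/-! ### every generator acts like an element of `K2` -/

theorem two_cases : ∀ t : ZMod 2, t = 0 ∨ t = 1 := by decide

theorem hS_all : ∀ A ∈ SF, ∃ σ ∈ KH2, ∀ x, inR x →
    (A : Matrix Ix Ix (ZMod 2)).mulVec (vec x) = vec (σ x) := by
  rintro A ⟨w, hw, hA⟩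
  rw [hA]
  rcases hw with ⟨t, h | h⟩ | ⟨t, u, h | h⟩
  · rcases two_cases t with rfl | rfl
    · rw [h, weq_pp0]; exact ⟨1, one_mem _, compat_pp0⟩
    · rw [h, weq_pp1]; exact ⟨gb_pp1, gb_mem_pp1, compat_pp1⟩
  · rcases two_cases t with rfl | rfl
    · rw [h, weq_pm0]; exact ⟨1, one_mem _, compat_pm0⟩
    · rw [h, weq_pm1]; exact ⟨gb_pm1, gb_mem_pm1, compat_pm1⟩
  · rcases two_cases t with rfl | rfl <;> rcases two_cases u with rfl | rfl
    · rw [h, weq_cp00]; exact ⟨1, one_mem _, compat_cp00⟩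
    · rw [h, weq_cp01]; exact ⟨gb_cp01, gb_mem_cp01, compat_cp01⟩
    · rw [h, weq_cp10]; exact ⟨gb_cp10, gb_mem_cp10, compat_cp10⟩
    · rw [h, weq_cp11]; exact ⟨gb_cp11, gb_mem_cp11, compat_cp11⟩
  · rcases two_cases t with rfl | rfl <;> rcases two_cases u with rfl | rfl
    · rw [h, weq_cm00]; exact ⟨1, one_mem _, compat_cm00⟩
    · rw [h, weq_cm01]; exact ⟨gb_cm01, gb_mem_cm01, compat_cm01⟩
    · rw [h, weq_cm10]; exact ⟨gb_cm10, gb_mem_cm10, compat_cm10⟩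
    · rw [h, weq_cm11]; exact ⟨gb_cm11, gb_mem_cm11, compat_cm11⟩

/-! ### the generators of `K2` are reached -/

theorem memS_pp1 : gb_pp1 ∈ {σ : P | σ ∈ KH2 ∧ ∃ A ∈ SF, ∀ x, inR x →
    (A : Matrix Ix Ix (ZMod 2)).mulVec (vec x) = vec (σ x)} := by
  obtain ⟨A, hA⟩ := exists_unit_wordMat [(33, 1), (24, 1)] (by
    intro p hp
    simp only [List.mem_cons, List.not_mem_nil, or_false] at hp
    rcases hp with rfl | rfl
    · exact xsq_33_1
    · exact xsq_24_1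
  )
  refine ⟨gb_mem_pp1, A, ⟨_, Or.inl ⟨(1 : ZMod 2), Or.inl weq_pp1.symm⟩, hA⟩, ?_⟩
  rw [hA]
  exact compat_pp1

theorem memS_pm1 : gb_pm1 ∈ {σ : P | σ ∈ KH2 ∧ ∃ A ∈ SF, ∀ x, inR x →
    (A : Matrix Ix Ix (ZMod 2)).mulVec (vec x) = vec (σ x)} := by
  obtain ⟨A, hA⟩ := exists_unit_wordMat [(14, 1), (23, 1)] (by
    intro p hp
    simp only [List.mem_cons, List.not_mem_nil, or_false] at hp
    rcases hp with rfl | rfl
    · exact xsq_14_1
    · exact xsq_23_1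
  )
  refine ⟨gb_mem_pm1, A, ⟨_, Or.inl ⟨(1 : ZMod 2), Or.inr weq_pm1.symm⟩, hA⟩, ?_⟩
  rw [hA]
  exact compat_pm1

theorem memS_cp01 : gb_cp01 ∈ {σ : P | σ ∈ KH2 ∧ ∃ A ∈ SF, ∀ x, inR x →
    (A : Matrix Ix Ix (ZMod 2)).mulVec (vec x) = vec (σ x)} := by
  obtain ⟨A, hA⟩ := exists_unit_wordMat [(27, 0), (25, 0), (28, 1), (30, 1)] (by
    intro p hp
    simp only [List.mem_cons, List.not_mem_nil, or_false] at hp
    rcases hp with rfl | rfl | rfl | rfl
    · exact xsq_27_0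
    · exact xsq_25_0
    · exact xsq_28_1
    · exact xsq_30_1
  )
  refine ⟨gb_mem_cp01, A, ⟨_, Or.inr ⟨(0 : ZMod 2), (1 : ZMod 2), Or.inl weq_cp01.symm⟩, hA⟩, ?_⟩
  rw [hA]
  exact compat_cp01

theorem memS_cm01 : gb_cm01 ∈ {σ : P | σ ∈ KH2 ∧ ∃ A ∈ SF, ∀ x, inR x →
    (A : Matrix Ix Ix (ZMod 2)).mulVec (vec x) = vec (σ x)} := by
  obtain ⟨A, hA⟩ := exists_unit_wordMat [(20, 0), (22, 0), (19, 1), (17, 1)] (by
    intro p hp
    simp only [List.mem_cons, List.not_mem_nil, or_false] at hp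
    rcases hp with rfl | rfl | rfl | rfl
    · exact xsq_20_0
    · exact xsq_22_0
    · exact xsq_19_1
    · exact xsq_17_1
  )
  refine ⟨gb_mem_cm01, A, ⟨_, Or.inr ⟨(0 : ZMod 2), (1 : ZMod 2), Or.inr weq_cm01.symm⟩, hA⟩, ?_⟩
  rw [hA]
  exact compat_cm01

theorem memS_cp10 : gb_cp10 ∈ {σ : P | σ ∈ KH2 ∧ ∃ A ∈ SF, ∀ x, inR x →
    (A : Matrix Ix Ix (ZMod 2)).mulVec (vec x) = vec (σ x)} := by
  obtain ⟨A, hA⟩ := exists_unit_wordMat [(27, 1), (25, 1), (28, 1), (30, 0)] (by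
    intro p hp
    simp only [List.mem_cons, List.not_mem_nil, or_false] at hp
    rcases hp with rfl | rfl | rfl | rfl
    · exact xsq_27_1
    · exact xsq_25_1
    · exact xsq_28_1
    · exact xsq_30_0
  )
  refine ⟨gb_mem_cp10, A, ⟨_, Or.inr ⟨(1 : ZMod 2), (0 : ZMod 2), Or.inl weq_cp10.symm⟩, hA⟩, ?_⟩
  rw [hA]
  exact compat_cp10

theorem memS_cm10 : gb_cm10 ∈ {σ : P | σ ∈ KH2 ∧ ∃ A ∈ SF, ∀ x, inR x →
    (A : Matrix Ix Ix (ZMod 2)).mulVec (vec x) = vec (σ x)} := by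
  obtain ⟨A, hA⟩ := exists_unit_wordMat [(20, 1), (22, 1), (19, 1), (17, 0)] (by
    intro p hp
    simp only [List.mem_cons, List.not_mem_nil, or_false] at hp
    rcases hp with rfl | rfl | rfl | rfl
    · exact xsq_20_1
    · exact xsq_22_1
    · exact xsq_19_1
    · exact xsq_17_0
  )
  refine ⟨gb_mem_cm10, A, ⟨_, Or.inr ⟨(1 : ZMod 2), (0 : ZMod 2), Or.inr weq_cm10.symm⟩, hA⟩, ?_⟩
  rw [hA]
  exact compat_cm10

theorem memS_cp11 : gb_cp11 ∈ {σ : P | σ ∈ KH2 ∧ ∃ A ∈ SF, ∀ x, inR x →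
    (A : Matrix Ix Ix (ZMod 2)).mulVec (vec x) = vec (σ x)} := by
  obtain ⟨A, hA⟩ := exists_unit_wordMat [(27, 1), (25, 1), (28, 0), (30, 1)] (by
    intro p hp
    simp only [List.mem_cons, List.not_mem_nil, or_false] at hp
    rcases hp with rfl | rfl | rfl | rfl
    · exact xsq_27_1
    · exact xsq_25_1
    · exact xsq_28_0
    · exact xsq_30_1
  )
  refine ⟨gb_mem_cp11, A, ⟨_, Or.inr ⟨(1 : ZMod 2), (1 : ZMod 2), Or.inl weq_cp11.symm⟩, hA⟩, ?_⟩
  rw [hA]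
  exact compat_cp11

theorem memS_cm11 : gb_cm11 ∈ {σ : P | σ ∈ KH2 ∧ ∃ A ∈ SF, ∀ x, inR x →
    (A : Matrix Ix Ix (ZMod 2)).mulVec (vec x) = vec (σ x)} := by
  obtain ⟨A, hA⟩ := exists_unit_wordMat [(20, 1), (22, 1), (19, 0), (17, 1)] (by
    intro p hp
    simp only [List.mem_cons, List.not_mem_nil, or_false] at hp
    rcases hp with rfl | rfl | rfl | rfl
    · exact xsq_20_1
    · exact xsq_22_1
    · exact xsq_19_0
    · exact xsq_17_1
  )
  refine ⟨gb_mem_cm11, A, ⟨_, Or.inr ⟨(1 : ZMod 2), (1 : ZMod 2), Or.inr weq_cm11.symm⟩, hA⟩, ?_⟩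
  rw [hA]
  exact compat_cm11

theorem hK_all : KH2 ≤ Subgroup.closure {σ : P | σ ∈ KH2 ∧ ∃ A ∈ SF, ∀ x, inR x →
    (A : Matrix Ix Ix (ZMod 2)).mulVec (vec x) = vec (σ x)} := by
  have hGB : ∀ g ∈ GB, g ∈ Subgroup.closure {σ : P | σ ∈ KH2 ∧ ∃ A ∈ SF, ∀ x, inR x →
      (A : Matrix Ix Ix (ZMod 2)).mulVec (vec x) = vec (σ x)} := by
    intro g hg
    simp only [GB, List.mem_cons, List.not_mem_nil, or_false] at hg
    rcases hg with rfl | rfl | rfl | rfl | rfl | rfl | rfl | rfl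
    · exact Subgroup.subset_closure memS_pp1
    · exact Subgroup.subset_closure memS_pm1
    · exact Subgroup.subset_closure memS_cp01
    · exact Subgroup.subset_closure memS_cm01
    · exact Subgroup.subset_closure memS_cp10
    · exact Subgroup.subset_closure memS_cm10
    · exact Subgroup.subset_closure memS_cp11
    · exact Subgroup.subset_closure memS_cm11
  exact closure_genSet_le GH2 _ (fm2
    (mem_of_wordCheck bLT GB repL_b hT2_0 gh2_0 (rep_mkPerm _ _ _) _ rev_0 _ hGB)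
    (mem_of_wordCheck bLT GB repL_b hT2_1 gh2_1 (rep_mkPerm _ _ _) _ rev_1 _ hGB))

/-- The isomorphism. -/
theorem twistedF4_equiv_K2 : Nonempty (↥(twistedF4 (ZMod 2) 1) ≃* ↥KH2) := by
  rw [twistedF4_eq]
  exact Cfsg.Agent.Lib.Helper97.TitsKey.exists_mulEquiv_of_action SF KH2 inR vec hinv_K2 hinj_vec hspan_vec
    hfaith_K2 hS_all hK_all

end Cfsg.Agent.Lib.Helper95.Tits
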