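import Mathlib
import Cfsg.Agent.Lib.Helper95.Tits.Iso
import Cfsg.Agent.Lib.Helper40.TitsKeyT4

/-!
# ²F₄(2) and the Tits group: consequences of the isomorphism with `K2` (helper95)
-/

set_option autoImplicit false

namespace Cfsg.Agent.Lib.Helper95.Tits

open Cfsg.Lie Cfsg.Agent.Lib.Helper95.Ru Cfsg.Agent.Lib.Helper66.RuKey

local notation "KH2" => Subgroup.closure (genSet GH2)
local notation "JT1" => Subgroup.closure (genSet GT1)

/-- The Tits subgroup inside `K2`. -/
noncomputable def TK : Subgroup ↥KH2 := (JT1).subgroupOf KH2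

theorem TK_simple : IsSimpleGroup ↥TK := by
  have := simple_T
  exact (Subgroup.subgroupOfEquivOfLe JT1_le).isSimpleGroup

theorem TK_card : Nat.card ↥TK = 17971200 := by
  rw [← card_JT1]
  exact Nat.card_congr (Subgroup.subgroupOfEquivOfLe JT1_le).toEquiv

set_option maxRecDepth 4000 in
theorem tits_facts :
    (commutator ↥(twistedF4 (ZMod 2) 1)).index = 2 ∧ IsSimpleGroup ↥(commutator ↥(twistedF4 (ZMod 2) 1)) ∧
      ¬ IsMulCommutative ↥(commutator ↥(twistedF4 (ZMod 2) 1)) ∧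
      Nat.card ↥(commutator ↥(twistedF4 (ZMod 2) 1)) = 17971200 ∧
      ((∀ k : ↥KH2, orderOf k = 2 → k ∈ TK) →
        ∀ g : ↥(twistedF4 (ZMod 2) 1), orderOf g = 2 → g ∈ commutator ↥(twistedF4 (ZMod 2) 1)) := by
  obtain ⟨e⟩ := twistedF4_equiv_K2
  have hnp : ¬ (Nat.card ↥TK).Prime := fun hp =>
    absurd ((congrArg Nat.Prime TK_card).mp hp) (by norm_num)
  have h2 : (35942400 : ℕ) = 2 * 17971200 := by norm_num
  have hidx : Nat.card ↥KH2 = 2 * Nat.card ↥TK :=
    card_KH2.trans (h2.trans (congrArg (fun n => 2 * n) TK_card.symm))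
  have key := @Cfsg.Agent.Lib.Helper40.TitsKey.commutator_facts ↥(twistedF4 (ZMod 2) 1) ↥KH2
    inferInstance inferInstance inferInstance e TK TK_simple hnp hidx
  exact ⟨key.1, key.2.1, key.2.2.1, key.2.2.2.1.trans TK_card, key.2.2.2.2⟩

end Cfsg.Agent.Lib.Helper95.Tits
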