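import Cfsg.Agent.Lib.Helper95.Ru.Defs
import Cfsg.Agent.Lib.Helper95.Ru.DataH
import Cfsg.Agent.Lib.Helper95.Ru.DataT
import Cfsg.Agent.Lib.Helper95.Ru.DataP
import Cfsg.Agent.Lib.Helper95.Tits.SylData

set_option autoImplicit false

namespace Cfsg.Agent.Lib.Helper95.Ru

set_option maxRecDepth 1000000 in
theorem valid_y1 : validPair yT1 yT1i = true := by decide +kernel
set_option maxRecDepth 1000000 in
theorem word_y1 : wordCheck yT1 (wT tLT2 yw1) = true := by decide +kernel
set_option maxRecDepth 1000000 in
theorem valid_y2 : validPair yT2 yT2i = true := by decide +kernel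
set_option maxRecDepth 1000000 in
theorem word_y2 : wordCheck yT2 (wT tLT2 yw2) = true := by decide +kernel
theorem fix_y2 : fixCheck yLT2 3 = true := by decide +kernel
theorem root_y1 : (inOrb yL1.W yL1.β = true ∧ uw yL1 yL1.β = []) := by
  constructor <;> decide +kernel
set_option maxRecDepth 1000000 in
theorem count_y1 : orbCount yW1 4060 = 1024 := by decide +kernel
theorem root_y2 : (inOrb yL2.W yL2.β = true ∧ uw yL2 yL2.β = []) := by
  constructor <;> decide +kernel
set_option maxRecDepth 1000000 in
theorem count_y2 : orbCount yW2 4060 = 4 := by decide +kernel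
set_option maxRecDepth 1000000 in
theorem lvl_y2 : levelCheckRange Bpts yL2 [] 0 4060 = true := by decide +kernel
set_option maxRecDepth 1000000 in
theorem lvl_y1 : levelCheckRange Bpts yL1 [yL2] 0 4060 = true := by decide +kernel
set_option maxRecDepth 1000000 in
theorem orbList_y2 : orbListCheck yW2 yO2 = true := by decide +kernel
set_option maxRecDepth 1000000 in
theorem invo_y : invoCheck Bpts yL1 yL2 yO2 = true := by decide +kernel

end Cfsg.Agent.Lib.Helper95.Ru
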