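import Mathlib
import Cfsg.Agent.Lib.Helper95.Ru.Chain
import Cfsg.Agent.Lib.Helper95.Tits.SylData
import Cfsg.Agent.Lib.Helper95.Tits.SylChk
import Cfsg.Agent.Lib.Helper52.TitsKeyT5

/-!
# A Sylow 2-subgroup of the point stabiliser `KH2 ≅ ²F₄(2)` of the Rudvalis group, and its involutions (helper95)

`P2 = ⟨gh4_1, gy1, gy2⟩` has order `4096 = 2¹²` (two Schreier–Sims levels, base `3, 5`); every element is a product
`u_x * v_y` of transversal elements; the kernel check `invo_y` shows that the elements with an odd number of letters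
`gh4_1^{±1}` are not involutions, and the others lie in the Tits subgroup `JT1`.  Hence all involutions of `KH2` lie in
`JT1`.
-/

set_option autoImplicit false

namespace Cfsg.Agent.Lib.Helper95.Ru

open Cfsg.Agent.Lib.Helper62.RuKey Cfsg.Agent.Lib.Helper26.RuKey Cfsg.Agent.Lib.Helper66.RuKey
  Cfsg.Agent.Lib.Helper63.RuKey

noncomputable def gy1 : P := mkPerm yT1 yT1i valid_y1
noncomputable def gy2 : P := mkPerm yT2 yT2i valid_y2
noncomputable def GY1 : List P := [gh4_1, gy1, gy2]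
noncomputable def GY2 : List P := [gh4_1]

theorem repL_y1 : RepL yLT1 GY1 :=
  List.Forall₂.cons ⟨rep_mkPerm _ _ _, rep_mkPerm_inv _ _ _⟩
    (List.Forall₂.cons ⟨rep_mkPerm _ _ _, rep_mkPerm_inv _ _ _⟩
      (List.Forall₂.cons ⟨rep_mkPerm _ _ _, rep_mkPerm_inv _ _ _⟩ List.Forall₂.nil))
theorem repL_y2 : RepL yLT2 GY2 :=
  List.Forall₂.cons ⟨rep_mkPerm _ _ _, rep_mkPerm_inv _ _ _⟩ List.Forall₂.nil

local notation "KH2" => Subgroup.closure (genSet GH2)
local notation "KH3" => Subgroup.closure (genSet GH3)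
local notation "KH4" => Subgroup.closure (genSet GH4)
local notation "JT1" => Subgroup.closure (genSet GT1)
local notation "JT2" => Subgroup.closure (genSet GT2)
local notation "P2" => Subgroup.closure (genSet GY1)
local notation "C2" => Subgroup.closure (genSet GY2)

theorem gh4_1_mem_GH4 : gh4_1 ∈ GH4 := by simp [GH4]

theorem gy_mem (K : Subgroup P) (hK : ∀ g ∈ GT2, g ∈ K) : gy1 ∈ K ∧ gy2 ∈ K :=
  ⟨mem_of_wordCheck tLT2 GT2 repL_t2 yT1 gy1 (rep_mkPerm _ _ _) yw1 word_y1 K hK,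
    mem_of_wordCheck tLT2 GT2 repL_t2 yT2 gy2 (rep_mkPerm _ _ _) yw2 word_y2 K hK⟩

theorem gy_mem_JT1 : gy1 ∈ JT1 ∧ gy2 ∈ JT1 :=
  gy_mem JT1 (fun x hx => JT2_le (mem_genSet_closure GT2 x hx))

theorem gh4_1_mem_KH2 : gh4_1 ∈ KH2 := KH3_le (KH4_le (mem_genSet_closure GH4 gh4_1 gh4_1_mem_GH4))

theorem linA_y1 : ∀ g ∈ GY1, g ∈ linGroup PT :=
  fm3 (linA_h4 gh4_1 gh4_1_mem_GH4) (gy_mem _ linA_t2).1 (gy_mem _ linA_t2).2
theorem linA_y2 : ∀ g ∈ GY2, g ∈ linGroup PT := fm1 (linA_h4 gh4_1 gh4_1_mem_GH4)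

theorem C2_le : C2 ≤ P2 :=
  closure_genSet_le GY2 _ (fm1 (mem_genSet_closure GY1 gh4_1 (by simp [GY1])))

theorem P2_le : P2 ≤ KH2 :=
  closure_genSet_le GY1 _ (fm3 gh4_1_mem_KH2 (JT1_le gy_mem_JT1.1) (JT1_le gy_mem_JT1.2))

theorem sound_y2 : LevelOK yL2 (by decide) C2 ⊥ :=
  level_sound (linGroup PT) Bpts hrigid yL2 GY2 repL_y2 linA_y2 [] []
  List.Forall₂.nil (by intro GP' h; cases h) ⊥ (by intro GP' h; cases h) bot_le (by decide)
  (by intro h hh; rw [Subgroup.mem_bot.mp hh]; rfl) root_y2 lvl_y2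

theorem sound_y1 : LevelOK yL1 (by decide) P2 C2 :=
  level_sound (linGroup PT) Bpts hrigid yL1 GY1 repL_y1 linA_y1 [yL2] [GY2]
  (List.Forall₂.cons repL_y2 List.Forall₂.nil) (fm1 linA_y2) C2
  (fm1 (mem_genSet_closure GY2)) C2_le (by decide)
  (fix_of_fixCheck yLT2 GY2 repL_y2 3 (by decide) fix_y2) root_y1 lvl_y1

theorem card_C2 : Nat.card C2 = 4 := by
  have h := sound_y2.1
  rw [Subgroup.card_bot, Nat.mul_one] at h
  exact h.trans count_y2

theorem card_P2 : Nat.card P2 = 4096 := by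
  have h := sound_y1.1
  rw [card_C2] at h
  rw [h, show orbCount yL1.W 4060 = 1024 from count_y1]

/-- Every element of `P2` is a product of two transversal elements. -/
theorem normal_form_P2 (g : P) (hg : g ∈ P2) :
    ∃ x y, x < 4060 ∧ inOrb yW1 x = true ∧ y ∈ yO2 ∧
      g = wP GY1 (uw yL1 x) * wP GY2 (uw yL2 y) := by
  have hβ1 : (3 : ℕ) < 4060 := by decide
  have hβ2 : (5 : ℕ) < 4060 := by decide
  -- first level
  have hx : inOrb yW1 (g ⟨3, hβ1⟩).val = true :=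
    closure_mapsTo yW1 GY1
      (fun g hg x hx => gen_mapsTo Bpts yL1 [yL2] GY1 repL_y1 lvl_y1 g hg x hx) g hg ⟨3, hβ1⟩ root_y1.1
  have hxlt : (g ⟨3, hβ1⟩).val < 4060 := (g ⟨3, hβ1⟩).isLt
  have hu : (wP GY1 (uw yL1 (g ⟨3, hβ1⟩).val)) ⟨3, hβ1⟩ = g ⟨3, hβ1⟩ := by
    apply Fin.ext
    rw [wP_apply repL_y1]
    exact (levelCheckRange_spec Bpts yL1 [yL2] 0 4060 lvl_y1 _ (Nat.zero_le _) (by omega) hx).1
  have huP : wP GY1 (uw yL1 (g ⟨3, hβ1⟩).val) ∈ P2 := wP_mem _ GY1 (mem_genSet_closure GY1) _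
  set u := wP GY1 (uw yL1 (g ⟨3, hβ1⟩).val) with hudef
  have hhC : u⁻¹ * g ∈ C2 := by
    apply sound_y1.2.1 _ (Subgroup.mul_mem _ (Subgroup.inv_mem _ huP) hg)
    show (u⁻¹ * g) ⟨3, hβ1⟩ = ⟨3, hβ1⟩
    rw [Equiv.Perm.mul_apply, ← hu]
    exact Equiv.symm_apply_apply u _
  -- second level
  have hy : inOrb yW2 ((u⁻¹ * g) ⟨5, hβ2⟩).val = true :=
    closure_mapsTo yW2 GY2
      (fun g hg x hx => gen_mapsTo Bpts yL2 [] GY2 repL_y2 lvl_y2 g hg x hx) _ hhC ⟨5, hβ2⟩ root_y2.1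
  have hylt : ((u⁻¹ * g) ⟨5, hβ2⟩).val < 4060 := ((u⁻¹ * g) ⟨5, hβ2⟩).isLt
  have hv : (wP GY2 (uw yL2 ((u⁻¹ * g) ⟨5, hβ2⟩).val)) ⟨5, hβ2⟩ = (u⁻¹ * g) ⟨5, hβ2⟩ := by
    apply Fin.ext
    rw [wP_apply repL_y2]
    exact (levelCheckRange_spec Bpts yL2 [] 0 4060 lvl_y2 _ (Nat.zero_le _) (by omega) hy).1
  have hvC : wP GY2 (uw yL2 ((u⁻¹ * g) ⟨5, hβ2⟩).val) ∈ C2 := wP_mem _ GY2 (mem_genSet_closure GY2) _
  set v := wP GY2 (uw yL2 ((u⁻¹ * g) ⟨5, hβ2⟩).val) with hvdef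
  have hbot : v⁻¹ * (u⁻¹ * g) ∈ (⊥ : Subgroup P) := by
    apply sound_y2.2.1 _ (Subgroup.mul_mem _ (Subgroup.inv_mem _ hvC) hhC)
    show (v⁻¹ * (u⁻¹ * g)) ⟨5, hβ2⟩ = ⟨5, hβ2⟩
    rw [Equiv.Perm.mul_apply, ← hv]
    exact Equiv.symm_apply_apply v _
  have hguv : g = u * v := by
    have h1 : v⁻¹ * (u⁻¹ * g) = 1 := Subgroup.mem_bot.mp hbot
    have h2 : u⁻¹ * g = v := by
      have := congrArg (fun t => v * t) h1
      simpa using this
    have := congrArg (fun t => u * t) h2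
    simpa using this
  refine ⟨(g ⟨3, hβ1⟩).val, ((u⁻¹ * g) ⟨5, hβ2⟩).val, hxlt, hx, ?_, hguv⟩
  have h := allBelow_spec orbList_y2 _ hylt
  rw [hy] at h
  simpa using h

/-! ### parity -/

theorem index_JT1_sub : ((JT1).subgroupOf KH2).index = 2 := by
  have h1 : Nat.card ↥((JT1).subgroupOf KH2) = 17971200 := by
    rw [← card_JT1]
    exact Nat.card_congr (Subgroup.subgroupOfEquivOfLe JT1_le).toEquiv
  have h2 := ((JT1).subgroupOf KH2).card_mul_index
  rw [h1, card_KH2] at h2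
  omega

theorem mul_mem_JT1_iff {a b : P} (ha : a ∈ KH2) (hb : b ∈ KH2) :
    a * b ∈ JT1 ↔ (a ∈ JT1 ↔ b ∈ JT1) := by
  have h := Subgroup.mul_mem_iff_of_index_two index_JT1_sub (a := (⟨a, ha⟩ : ↥KH2)) (b := ⟨b, hb⟩)
  simpa [Subgroup.mem_subgroupOf] using h

theorem gh4_1_not_mem : gh4_1 ∉ JT1 := by
  intro hc
  have hle : P2 ≤ JT1 := closure_genSet_le GY1 _ (fm3 hc gy_mem_JT1.1 gy_mem_JT1.2)
  have hdvd : Nat.card P2 ∣ Nat.card JT1 := Subgroup.card_dvd_of_le hle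
  rw [card_P2, card_JT1] at hdvd
  exact absurd hdvd (by norm_num)

/-- Membership of a letter in the Tits subgroup, for a generator list whose head is outside and whose tail is
inside. -/
theorem letP_mem_iff (c : P) (rest : List P) (hcK : c ∈ KH2) (hc : c ∉ JT1)
    (hrest : ∀ g ∈ rest, g ∈ JT1) (a : Nat) :
    letP (c :: rest) a ∈ KH2 ∧ (letP (c :: rest) a ∈ JT1 ↔ Nat.blt a 2 = false) := by
  have hK : ∀ g ∈ c :: rest, g ∈ KH2 := by
    intro g hg
    rcases List.mem_cons.mp hg with rfl | hg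
    · exact hcK
    · exact JT1_le (hrest g hg)
  refine ⟨letP_mem _ _ hK a, ?_⟩
  by_cases ha : a < 2
  · have hb : Nat.blt a 2 = true := by simpa [Nat.blt_eq] using ha
    have h0 : a / 2 = 0 := by omega
    rw [hb]
    unfold letP
    rw [h0]
    simp only [List.getElem?_cons_zero]
    by_cases hm : a % 2 = 0
    · simp only [hm, if_true]
      exact ⟨fun h => absurd h hc, fun h => absurd h (by simp)⟩
    · simp only [hm, if_false]
      exact ⟨fun h => absurd ((Subgroup.inv_mem_iff _).mp h) hc, fun h => absurd h (by simp)⟩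
  · have hb : Nat.blt a 2 = false := by
      cases h : Nat.blt a 2
      · rfl
      · exact absurd (by simpa [Nat.blt_eq] using h) ha
    rw [hb]
    refine ⟨fun _ => rfl, fun _ => ?_⟩
    obtain ⟨k, hk⟩ : ∃ k, a / 2 = k + 1 := ⟨a / 2 - 1, by omega⟩
    unfold letP
    rw [hk, List.getElem?_cons_succ]
    cases h : rest[k]? with
    | none => exact Subgroup.one_mem _
    | some g =>
      have hg : g ∈ rest := List.mem_of_getElem? h
      by_cases hm : a % 2 = 0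
      · simp only [hm, if_true]; exact hrest g hg
      · simp only [hm, if_false]; exact Subgroup.inv_mem _ (hrest g hg)

theorem wP_mem_iff (c : P) (rest : List P) (hcK : c ∈ KH2) (hc : c ∉ JT1)
    (hrest : ∀ g ∈ rest, g ∈ JT1) :
    ∀ w, wP (c :: rest) w ∈ KH2 ∧ (wP (c :: rest) w ∈ JT1 ↔ wpar w = false) := by
  intro w
  induction w with
  | nil =>
    rw [wP_nil]
    exact ⟨Subgroup.one_mem _, fun _ => rfl, fun _ => Subgroup.one_mem _⟩
  | cons a w ih =>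
    obtain ⟨h1, h2⟩ := letP_mem_iff c rest hcK hc hrest a
    rw [wP_cons]
    refine ⟨Subgroup.mul_mem _ ih.1 h1, ?_⟩
    rw [mul_mem_JT1_iff ih.1 h1, ih.2, h2]
    show _ ↔ xor (Nat.blt a 2) (wpar w) = false
    cases Nat.blt a 2 <;> cases wpar w <;> simp

theorem Bpts_lt : ∀ d ∈ Bpts, d < 4060 := by decide

/-- Elements of the Sylow subgroup whose square is trivial lie in the Tits subgroup. -/
theorem invo_mem_JT1 (s : P) (hs : s ∈ P2) (hss : s * s = 1) : s ∈ JT1 := by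
  obtain ⟨x, y, hx, hxo, hy, rfl⟩ := normal_form_P2 s hs
  have h1 := wP_mem_iff gh4_1 [gy1, gy2] gh4_1_mem_KH2 gh4_1_not_mem (fm2 gy_mem_JT1.1 gy_mem_JT1.2) (uw yL1 x)
  have h2 := wP_mem_iff gh4_1 [] gh4_1_mem_KH2 gh4_1_not_mem (by intro g hg; cases hg) (uw yL2 y)
  change wP GY1 (uw yL1 x) ∈ KH2 ∧ (wP GY1 (uw yL1 x) ∈ JT1 ↔ wpar (uw yL1 x) = false) at h1
  change wP GY2 (uw yL2 y) ∈ KH2 ∧ (wP GY2 (uw yL2 y) ∈ JT1 ↔ wpar (uw yL2 y) = false) at h2
  cases hp : xor (wpar (uw yL1 x)) (wpar (uw yL2 y)) with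
  | false =>
    rw [mul_mem_JT1_iff h1.1 h2.1, h1.2, h2.2]
    revert hp
    cases wpar (uw yL1 x) <;> cases wpar (uw yL2 y) <;> simp
  | true =>
    exfalso
    have hchk := allBelow_spec invo_y x hx
    have hxo' : inOrb yL1.W x = true := hxo
    simp only [hxo', Bool.not_true, Bool.false_or, List.all_eq_true] at hchk
    have hy' := hchk y hy
    rw [hp] at hy'
    simp only [Bool.not_true, Bool.false_or, List.any_eq_true] at hy'
    obtain ⟨d, hd, hne⟩ := hy'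
    have hdlt : d < 4060 := Bpts_lt d hd
    have happ : ∀ p : Fin 4060, ((wP GY1 (uw yL1 x) * wP GY2 (uw yL2 y)) p).val =
        evalT (wT yL2.LT (uw yL2 y) ++ wT yL1.LT (uw yL1 x)) p.val := by
      intro p
      rw [Equiv.Perm.mul_apply, wP_apply repL_y1, wP_apply repL_y2, evalT_append]
      rfl
    have hsq : (((wP GY1 (uw yL1 x) * wP GY2 (uw yL2 y)) *
        (wP GY1 (uw yL1 x) * wP GY2 (uw yL2 y))) ⟨d, hdlt⟩).val =
        evalT ((wT yL2.LT (uw yL2 y) ++ wT yL1.LT (uw yL1 x)) ++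
          (wT yL2.LT (uw yL2 y) ++ wT yL1.LT (uw yL1 x))) d := by
      rw [Equiv.Perm.mul_apply, happ, happ]
      exact (evalT_append _ _ _).symm
    rw [hss] at hsq
    have hsq' : d = evalT ((wT yL2.LT (uw yL2 y) ++ wT yL1.LT (uw yL1 x)) ++
          (wT yL2.LT (uw yL2 y) ++ wT yL1.LT (uw yL1 x))) d := hsq
    rw [← hsq'] at hne
    simp at hne

/-- All involutions of `KH2` lie in the Tits subgroup. -/
theorem involutions_in_JT1 : ∀ k : ↥KH2, orderOf k = 2 → k ∈ (JT1).subgroupOf KH2 := by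
  have hcardPP : Nat.card ↥((P2).subgroupOf KH2) = 4096 :=
    (Nat.card_congr (Subgroup.subgroupOfEquivOfLe P2_le).toEquiv).trans card_P2
  have hP : IsPGroup 2 ↥((P2).subgroupOf KH2) :=
    IsPGroup.of_card (n := 12) (by rw [hcardPP]; norm_num)
  have hodd : ¬ 2 ∣ ((P2).subgroupOf KH2).index := by
    have h := ((P2).subgroupOf KH2).card_mul_index
    rw [hcardPP, card_KH2] at h
    omega
  apply Cfsg.Agent.Lib.Helper52.TitsKey.involution_mem_of_sylow _ ((P2).subgroupOf KH2) index_JT1_sub hP hodd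
  intro s hs hss
  rw [Subgroup.mem_subgroupOf] at hs ⊢
  apply invo_mem_JT1 s.val hs
  have := congrArg Subtype.val hss
  simpa using this

end Cfsg.Agent.Lib.Helper95.Ru
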